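-- Copy of Groth/Agent/H72/DepthCM.lean (by helper72), re-namespaced under H58 so that H58 modules are self-contained.
import Mathlib
import Groth.Prelude.Def_CAlg
import Groth.Agent.H58.X26.DepthInf

set_option autoImplicit false
universe u

open RingTheory.Sequence Groth.Agent.H58.X15 Groth.Agent.H58.X26

namespace Groth.Agent.H58.X72.DepthCM

/-- Depth of a finitely generated nonzero module over a Noetherian local ring is at most
its dimension. -/
theorem depth_le_supportDim {A : Type u} [CommRing A] [IsNoetherianRing A] [IsLocalRing A]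
    (M : Type u) [AddCommGroup M] [Module A M] [Module.Finite A M] [Nontrivial M] :
    ((LocCoh.depth A M : ℕ∞) : WithBot ℕ∞) ≤ Module.supportDim A M := by
  have hne : IsLocalRing.maximalIdeal A • (⊤ : Submodule A M) ≠ ⊤ :=
    (Submodule.top_ne_ideal_smul_of_le_jacobson_annihilator
      (IsLocalRing.maximalIdeal_le_jacobson _)).symm
  have hd : Module.supportDim A M ≠ ⊥ := (Module.supportDim_ne_bot_iff_nontrivial A M).mpr ‹_›
  obtain ⟨d, hd'⟩ : ∃ d : ℕ∞, Module.supportDim A M = (d : WithBot ℕ∞) :=
    ⟨(Module.supportDim A M).unbot hd, (WithBot.coe_unbot _ hd).symm⟩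
  rw [hd']
  refine WithBot.coe_le_coe.mpr ?_
  unfold LocCoh.depth
  apply idealDepth_le_of_forall _ _ hne
  intro rs hreg hmem
  have hreg' : IsRegular M rs := isRegular_of_isWeaklyRegular_of_mem _ _ hne hreg hmem
  have h1 := Module.supportDim_add_length_eq_supportDim_of_isRegular rs hreg'
  have : Nontrivial (M ⧸ Ideal.ofList rs • (⊤ : Submodule A M)) :=
    hreg'.quot_ofList_smul_nontrivial ⊤
  have h2 : Module.supportDim A (M ⧸ Ideal.ofList rs • (⊤ : Submodule A M)) ≠ ⊥ :=
    (Module.supportDim_ne_bot_iff_nontrivial A _).mpr this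
  obtain ⟨e, he⟩ : ∃ e : ℕ∞, Module.supportDim A (M ⧸ Ideal.ofList rs • (⊤ : Submodule A M)) =
      (e : WithBot ℕ∞) := ⟨_, (WithBot.coe_unbot _ h2).symm⟩
  rw [he, hd'] at h1
  have h3 : e + (rs.length : ℕ∞) = d := by exact_mod_cast h1
  rw [← h3]
  exact le_add_self

variable {R : Type u} [CommRing R]

noncomputable def locSelfEquiv (p : Ideal R) [p.IsPrime] :
    LocalizedModule p.primeCompl R ≃ₗ[Localization.AtPrime p] Localization.AtPrime p :=
  (LocalizedModule.equivTensorProduct p.primeCompl R).trans
    (TensorProduct.AlgebraTensorModule.rid R (Localization.AtPrime p) (Localization.AtPrime p))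

theorem depth_localizedModule_self (p : Ideal R) [p.IsPrime] :
    LocCoh.depth (Localization.AtPrime p) (LocalizedModule p.primeCompl R) =
      LocCoh.depth (Localization.AtPrime p) (Localization.AtPrime p) :=
  idealDepth_congr (locSelfEquiv p) _

/-- In a Noetherian ring whose localizations at primes have depth equal to height,
ideal depth is computed as an infimum of heights. -/
theorem iInf_height_eq_height (a : Ideal R) :
    (⨅ (p : PrimeSpectrum R) (_ : a ≤ p.asIdeal), p.asIdeal.height) = a.height := by
  apply le_antisymm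
  · rw [Ideal.height_eq_inf_minimalPrimes]
    refine le_iInf₂ fun J hJ => ?_
    exact iInf₂_le_of_le ⟨J, hJ.1.1⟩ hJ.1.2 le_rfl
  · exact le_iInf₂ fun p hp => Ideal.height_mono hp

end Groth.Agent.H58.X72.DepthCM
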