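-- Copy of Groth/Agent/H72/HalfExact.lean (by helper72), re-namespaced under H58 so that H58 modules are self-contained.
import Mathlib

/-!
Dévissage for half-exact linear functors on finitely generated modules over a Noetherian local ring.
-/

namespace Groth.Agent.H58.X72.HalfExact

open CategoryTheory

universe u

variable {B A : Type u} [CommRing B] [CommRing A] (T : ModuleCat.{u} B ⥤ ModuleCat.{u} A)

/-- The short exact sequence in `ModuleCat` attached to an exact pair of linear maps. -/
theorem shortExact_of_exact {M₁ M₂ M₃ : Type u} [AddCommGroup M₁] [Module B M₁]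
    [AddCommGroup M₂] [Module B M₂] [AddCommGroup M₃] [Module B M₃]
    (f : M₁ →ₗ[B] M₂) (g : M₂ →ₗ[B] M₃) (hf : Function.Injective f) (hg : Function.Surjective g)
    (hfg : Function.Exact f g) :
    (ModuleCat.shortComplexOfCompEqZero f g hfg.linearMap_comp_eq_zero).ShortExact where
  exact := (ShortComplex.ShortExact.moduleCat_exact_iff_function_exact _).mpr hfg
  mono_f := (ModuleCat.mono_iff_injective _).mpr hf
  epi_g := (ModuleCat.epi_iff_surjective _).mpr hg

variable [T.Additive]
  (hex : ∀ S : ShortComplex (ModuleCat.{u} B), S.ShortExact → Module.Finite B S.X₁ →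
      Module.Finite B S.X₂ → Module.Finite B S.X₃ → (S.map T).Exact)

include hex in
theorem epi_of_ses {M₁ M₂ M₃ : Type u} [AddCommGroup M₁] [Module B M₁]
    [AddCommGroup M₂] [Module B M₂] [AddCommGroup M₃] [Module B M₃]
    [Module.Finite B M₁] [Module.Finite B M₂] [Module.Finite B M₃]
    (f : M₁ →ₗ[B] M₂) (g : M₂ →ₗ[B] M₃) (hf : Function.Injective f) (hg : Function.Surjective g)
    (hfg : Function.Exact f g) (h3 : Limits.IsZero (T.obj (ModuleCat.of B M₃))) :
    Epi (T.map (ModuleCat.ofHom f)) := by
  have hS := shortExact_of_exact f g hf hg hfg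
  have hE := hex _ hS (by assumption) (by assumption) (by assumption)
  exact hE.epi_f (h3.eq_of_tgt _ _)

include hex in
theorem isZero_of_ses {M₁ M₂ M₃ : Type u} [AddCommGroup M₁] [Module B M₁]
    [AddCommGroup M₂] [Module B M₂] [AddCommGroup M₃] [Module B M₃]
    [Module.Finite B M₁] [Module.Finite B M₂] [Module.Finite B M₃]
    (f : M₁ →ₗ[B] M₂) (g : M₂ →ₗ[B] M₃) (hf : Function.Injective f) (hg : Function.Surjective g)
    (hfg : Function.Exact f g) (h1 : Limits.IsZero (T.obj (ModuleCat.of B M₁)))
    (h3 : Limits.IsZero (T.obj (ModuleCat.of B M₃))) :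
    Limits.IsZero (T.obj (ModuleCat.of B M₂)) := by
  have := epi_of_ses T hex f g hf hg hfg h3
  exact Limits.IsZero.of_epi (T.map (ModuleCat.ofHom f)) h1

omit [T.Additive] in
theorem isZero_of_equiv {M M' : Type u} [AddCommGroup M] [Module B M] [AddCommGroup M']
    [Module B M'] (e : M ≃ₗ[B] M') (h : Limits.IsZero (T.obj (ModuleCat.of B M))) :
    Limits.IsZero (T.obj (ModuleCat.of B M')) :=
  h.of_iso (T.mapIso e.toModuleIso).symm

section Local

variable [IsNoetherianRing B] [IsLocalRing B] [IsNoetherianRing A] [IsLocalRing A] [Algebra B A]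
    [IsLocalHom (algebraMap B A)]
  (hlin : ∀ (N : ModuleCat.{u} B) (b : B),
      T.map (ModuleCat.ofHom (b • (LinearMap.id : N →ₗ[B] N))) =
        ModuleCat.ofHom (algebraMap B A b • (LinearMap.id : T.obj N →ₗ[A] T.obj N)))
  (hfin : ∀ N : ModuleCat.{u} B, Module.Finite B N → Module.Finite A (T.obj N))

omit [T.Additive] [IsNoetherianRing B] [IsNoetherianRing A] in
include hlin hfin in
/-- Nakayama: if `T (b • id)` is an epimorphism for some `b` in the maximal ideal, `T M = 0`. -/
theorem isZero_of_epi_smul {M : Type u} [AddCommGroup M] [Module B M] [Module.Finite B M]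
    (b : B) (hb : b ∈ IsLocalRing.maximalIdeal B)
    (hepi : Epi (T.map (ModuleCat.ofHom (b • (LinearMap.id : M →ₗ[B] M))))) :
    Limits.IsZero (T.obj (ModuleCat.of B M)) := by
  have hfinX : Module.Finite A (T.obj (ModuleCat.of B M)) := hfin _ (by assumption)
  have hlin' := hlin (ModuleCat.of B M) b
  have hepi' : Epi (ModuleCat.ofHom (algebraMap B A b •
      (LinearMap.id : T.obj (ModuleCat.of B M) →ₗ[A] T.obj (ModuleCat.of B M)))) := by
    rw [← hlin']; exact hepi
  have hsurj : Function.Surjective (algebraMap B A b •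
      (LinearMap.id : T.obj (ModuleCat.of B M) →ₗ[A] T.obj (ModuleCat.of B M))) :=
    (ModuleCat.epi_iff_surjective _).mp hepi'
  have hmem : algebraMap B A b ∈ IsLocalRing.maximalIdeal A := by
    rw [IsLocalRing.mem_maximalIdeal, mem_nonunits_iff] at hb ⊢
    exact fun h => hb (isUnit_of_map_unit (algebraMap B A) b h)
  have htop : (⊤ : Submodule A (T.obj (ModuleCat.of B M))) = ⊥ := by
    apply Submodule.eq_bot_of_le_smul_of_le_jacobson_bot (IsLocalRing.maximalIdeal A) ⊤
      (Module.Finite.fg_top)
    · intro x _
      obtain ⟨y, rfl⟩ := hsurj x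
      exact Submodule.smul_mem_smul hmem Submodule.mem_top
    · rw [IsLocalRing.jacobson_eq_maximalIdeal ⊥ bot_ne_top]
  have : Subsingleton (T.obj (ModuleCat.of B M)) := by
    rw [← Submodule.subsingleton_iff A, ← subsingleton_iff_bot_eq_top]
    exact htop.symm
  exact ModuleCat.isZero_of_subsingleton _

omit [IsNoetherianRing A] in
include hex hlin hfin in
/-- The minimal-counterexample step. -/
theorem step (h0 : Limits.IsZero (T.obj (ModuleCat.of B (B ⧸ IsLocalRing.maximalIdeal B))))
    {M : Type u} [AddCommGroup M] [Module B M] [Module.Finite B M]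
    (hquot : ∀ K : Submodule B M, K ≠ ⊥ → Limits.IsZero (T.obj (ModuleCat.of B (M ⧸ K)))) :
    Limits.IsZero (T.obj (ModuleCat.of B M)) := by
  have hN : IsNoetherian B M := isNoetherian_of_isNoetherianRing_of_finite B M
  by_cases hall : ∀ b ∈ IsLocalRing.maximalIdeal B, ∀ x : M, b • x = 0
  · by_cases hsub : Subsingleton M
    · exact T.map_isZero (ModuleCat.isZero_of_subsingleton _)
    · obtain ⟨x, hx⟩ : ∃ x : M, x ≠ 0 := by
        rw [not_subsingleton_iff_nontrivial] at hsub
        exact exists_ne 0
      let φ : B →ₗ[B] M := LinearMap.toSpanSingleton B M x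
      have hφ : ∀ b : B, φ b = b • x := fun b => rfl
      have hker : LinearMap.ker φ = IsLocalRing.maximalIdeal B := by
        have hle : IsLocalRing.maximalIdeal B ≤ LinearMap.ker φ := fun b hb => by
          rw [LinearMap.mem_ker, hφ, hall b hb x]
        have hne : LinearMap.ker φ ≠ ⊤ := by
          intro h
          have h1 : (1 : B) ∈ LinearMap.ker φ := by rw [h]; trivial
          rw [LinearMap.mem_ker, hφ, one_smul] at h1
          exact hx h1
        exact ((IsLocalRing.maximalIdeal.isMaximal B).eq_of_le hne hle).symm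
      let K : Submodule B M := LinearMap.range φ
      have hK : K ≠ ⊥ := by
        intro h
        have h1 : x ∈ K := ⟨1, by rw [hφ, one_smul]⟩
        rw [h, Submodule.mem_bot] at h1
        exact hx h1
      have e : (B ⧸ IsLocalRing.maximalIdeal B) ≃ₗ[B] K :=
        (Submodule.quotEquivOfEq _ _ hker.symm).trans φ.quotKerEquivRange
      have hTK : Limits.IsZero (T.obj (ModuleCat.of B K)) := isZero_of_equiv T e h0
      exact isZero_of_ses T hex K.subtype K.mkQ K.injective_subtype K.mkQ_surjective
        (LinearMap.exact_subtype_mkQ K) hTK (hquot K hK)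
  · simp only [not_forall] at hall
    obtain ⟨b, hb, x, hbx⟩ := hall
    let f : M →ₗ[B] M := b • LinearMap.id
    have hf : ∀ y : M, f y = b • y := fun y => rfl
    let I : Submodule B M := LinearMap.range f
    have hI : I ≠ ⊥ := by
      intro h
      have h1 : f x ∈ I := ⟨x, rfl⟩
      rw [h, Submodule.mem_bot, hf] at h1
      exact hbx h1
    have hTI := hquot I hI
    by_cases hk : LinearMap.ker f = ⊥
    · have hinj : Function.Injective f := LinearMap.ker_eq_bot.mp hk
      have := epi_of_ses T hex f I.mkQ hinj I.mkQ_surjective (LinearMap.exact_map_mkQ_range f) hTI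
      exact isZero_of_epi_smul T hlin hfin b hb this
    · have hTq := hquot _ hk
      have hTI' : Limits.IsZero (T.obj (ModuleCat.of B I)) :=
        isZero_of_equiv T f.quotKerEquivRange hTq
      exact isZero_of_ses T hex I.subtype I.mkQ I.injective_subtype I.mkQ_surjective
        (LinearMap.exact_subtype_mkQ I) hTI' hTI

omit [IsNoetherianRing A] in
include hex hlin hfin in
/-- Dévissage: a half-exact linear functor killing the residue field kills all finitely generated
modules. -/
theorem isZero_obj (h0 : Limits.IsZero (T.obj (ModuleCat.of B (B ⧸ IsLocalRing.maximalIdeal B))))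
    (N : Type u) [AddCommGroup N] [Module B N] [Module.Finite B N] :
    Limits.IsZero (T.obj (ModuleCat.of B N)) := by
  have hN : IsNoetherian B N := isNoetherian_of_isNoetherianRing_of_finite B N
  have key : ∀ K : Submodule B N, Limits.IsZero (T.obj (ModuleCat.of B (N ⧸ K))) := by
    intro K
    induction K using WellFoundedGT.induction with
    | ind K ih =>
      apply step T hex hlin hfin h0
      intro K' hK'
      let K'' : Submodule B N := K'.comap K.mkQ
      have hle : K ≤ K'' := by
        intro x hx
        change K.mkQ x ∈ K'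
        rw [Submodule.mkQ_apply, (Submodule.Quotient.mk_eq_zero K).mpr hx]
        exact K'.zero_mem
      have hlt : K < K'' := by
        refine lt_of_le_of_ne hle ?_
        intro heq
        apply hK'
        rw [eq_bot_iff]
        intro y hy
        obtain ⟨x, rfl⟩ := K.mkQ_surjective y
        have hx : x ∈ K'' := hy
        rw [← heq] at hx
        rw [Submodule.mem_bot, Submodule.mkQ_apply, (Submodule.Quotient.mk_eq_zero K).mpr hx]
      have hmap : K''.map K.mkQ = K' := Submodule.map_comap_eq_of_surjective K.mkQ_surjective K'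
      have e : (N ⧸ K'') ≃ₗ[B] ((N ⧸ K) ⧸ K') :=
        (Submodule.quotientQuotientEquivQuotient K K'' hle).symm.trans
          (Submodule.quotEquivOfEq _ _ hmap)
      exact isZero_of_equiv T e (ih K'' hlt)
  exact isZero_of_equiv T (Submodule.quotEquivOfEqBot ⊥ rfl) (key ⊥)

end Local

end Groth.Agent.H58.X72.HalfExact
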